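import Groth.Agent.Lib.SurjNear64.ModelFT
import Groth.Agent.Lib.FibreVanish36.Gen
import Groth.Agent.Lib.Amp36.Contraction.Fibres
import Mathlib.RingTheory.RingHom.FinitePresentation

/-!
# A proper morphism to an affine scheme is proper over a finitely presented affine scheme
-/

set_option autoImplicit false
set_option linter.style.haveILetI false
set_option backward.isDefEq.respectTransparency false

universe u

open CategoryTheory Limits AlgebraicGeometry TopologicalSpace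
open scoped TensorProduct

namespace Groth.Agent.Lib.SurjNear64.Factor

noncomputable section

/-- Elements generated by finitely many of a family. -/
theorem exists_finset {A T : Type u} [CommRing A] [CommRing T] (φ : A →+* T) (S : Set T)
    (h : Subring.closure (S ∪ Set.range φ) = ⊤) (G : Finset T) :
    ∃ F : Finset A, ∀ g ∈ G, g ∈ Subring.closure (S ∪ φ '' (F : Set A)) := by
  classical
  have mono : ∀ F F' : Finset A, F ⊆ F' →
      Subring.closure (S ∪ φ '' (F : Set A)) ≤ Subring.closure (S ∪ φ '' (F' : Set A)) :=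
    fun F F' hF => Subring.closure_mono (Set.union_subset_union le_rfl (Set.image_mono (Finset.coe_subset.2 hF)))
  have hdir : Directed (· ≤ ·) fun F : Finset A => Subring.closure (S ∪ φ '' (F : Set A)) :=
    fun F F' => ⟨F ∪ F', mono _ _ Finset.subset_union_left, mono _ _ Finset.subset_union_right⟩
  have hT : (⨆ F : Finset A, Subring.closure (S ∪ φ '' (F : Set A))) = ⊤ := by
    refine eq_top_iff.2 (h ▸ Subring.closure_le.2 ?_)
    rintro x (hx | ⟨a, rfl⟩)
    · exact le_iSup (fun F : Finset A => Subring.closure (S ∪ φ '' (F : Set A))) ∅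
        (Subring.subset_closure (Or.inl hx))
    · exact le_iSup (fun F : Finset A => Subring.closure (S ∪ φ '' (F : Set A))) {a}
        (Subring.subset_closure (Or.inr ⟨a, by simp, rfl⟩))
  have key : ∀ g : T, ∃ F : Finset A, g ∈ Subring.closure (S ∪ φ '' (F : Set A)) := fun g => by
    have : g ∈ ⨆ F : Finset A, Subring.closure (S ∪ φ '' (F : Set A)) := hT ▸ Subring.mem_top g
    exact (Subring.mem_iSup_of_directed hdir).1 this
  choose F hF using key
  exact ⟨G.biUnion F, fun g hg => mono _ _ (Finset.subset_biUnion_of_mem F hg) (hF g)⟩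

/-- `appLE` of a composite, on elements. -/
theorem comp_appLE_apply {X Y Z : Scheme.{u}} (f : X ⟶ Y) (g : Y ⟶ Z) (h : X ⟶ Z) (e : f ≫ g = h)
    (U : Z.Opens) (V : Y.Opens) (W : X.Opens) (e₁ e₂ e₃) (x : Γ(Z, U)) :
    f.appLE V W e₂ (g.appLE U V e₁ x) = h.appLE U W e₃ x := by
  subst e
  rw [← ConcreteCategory.comp_apply, Scheme.Hom.appLE_comp_appLE]

variable {A R : CommRingCat.{u}} {X : Scheme.{u}} (c : X ⟶ Spec A) (ρ : R ⟶ A) [IsProper c]
  [LocallyOfFiniteType (c ≫ Spec.map ρ)]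

/-- The factorisation. -/
theorem exists_factor (hd : ∀ s : ↥(Spec A), topologicalKrullDim ↥(c.fiber s) ≤ ((1 : ℕ) : WithBot ℕ∞)) :
    ∃ (P : CommRingCat.{u}) (α : R ⟶ P) (β : P ⟶ A), α ≫ β = ρ ∧ α.hom.FinitePresentation ∧
      IsProper (c ≫ Spec.map β) ∧
      ∀ z : ↥(Spec P), topologicalKrullDim ↥((c ≫ Spec.map β).fiber z) ≤ ((1 : ℕ) : WithBot ℕ∞) := by
  classical
  obtain ⟨B₀, hft, X₀, f₀, π, hπ, hp₀, hd₀, g, w, hci⟩ := Model.exists_model_ft c 1 hd
  haveI := hπ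
  haveI := hp₀
  haveI := hci
  obtain ⟨γ, rfl⟩ := Spec.map_surjective g
  haveI : CompactSpace X₀ := QuasiCompact.compactSpace_of_compactSpace f₀
  obtain ⟨𝒱, h𝒱, hcov⟩ := isCompact_iff_finite_and_eq_biUnion_affineOpens.mp
    (show IsCompact ((⊤ : X₀.Opens) : Set X₀) from isCompact_univ)
  haveI := h𝒱.fintype
  -- generators over `R`
  let φ : ∀ W : X₀.Opens, A →+* Γ(X, π ⁻¹ᵁ W) := fun W =>
    ((Scheme.ΓSpecIso A).inv ≫ c.appLE ⊤ (π ⁻¹ᵁ W) le_top).hom
  have hgen : ∀ V : 𝒱, ∃ F : Finset A, ∀ U : Subring Γ(X, π ⁻¹ᵁ V.1.1),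
      (∀ r, π.app V.1.1 r ∈ U) → (∀ r, φ V.1.1 (ρ r) ∈ U) → (∀ a ∈ F, φ V.1.1 a ∈ U) → U = ⊤ := by
    intro V
    obtain ⟨G, hG⟩ := ((c ≫ Spec.map ρ).finiteType_appLE (isAffineOpen_top _) (V.1.2.preimage π)
      (V := π ⁻¹ᵁ V.1.1) le_top : RingHom.FiniteType _)
    have htop : Subring.closure (Set.range (π.app V.1.1) ∪ Set.range (φ V.1.1)) = ⊤ :=
      Groth.Agent.Lib.FibreVanish36.Gen.subring_eq_top c f₀ (Spec.map γ) π w V.1.2 _
        (fun r => Subring.subset_closure (Or.inl ⟨r, rfl⟩)) fun a => by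
          refine Subring.subset_closure (Or.inr ⟨(Scheme.ΓSpecIso A).hom a, ?_⟩)
          show c.appLE ⊤ _ le_top ((Scheme.ΓSpecIso A).inv ((Scheme.ΓSpecIso A).hom a)) = _
          rw [CategoryTheory.Iso.hom_inv_id_apply]
    obtain ⟨F, hF⟩ := exists_finset (φ V.1.1) _ htop G
    refine ⟨F, fun U h1 h2 h3 => eq_top_iff.2 fun x _ => ?_⟩
    letI := ((c ≫ Spec.map ρ).appLE ⊤ (π ⁻¹ᵁ V.1.1) le_top).hom.toAlgebra
    have hbase : ∀ r, algebraMap Γ(Spec R, ⊤) Γ(X, π ⁻¹ᵁ V.1.1) r ∈ U := fun r => by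
      convert h2 ((Scheme.ΓSpecIso R).hom r) using 1
      show (c ≫ Spec.map ρ).appLE ⊤ _ le_top r =
        c.appLE ⊤ _ le_top ((Scheme.ΓSpecIso A).inv (ρ ((Scheme.ΓSpecIso R).hom r)))
      have e1 : (Scheme.ΓSpecIso A).inv (ρ ((Scheme.ΓSpecIso R).hom r)) = (Spec.map ρ).appTop r := by
        rw [← ConcreteCategory.comp_apply, ← ConcreteCategory.comp_apply]
        rw [← Scheme.ΓSpecIso_naturality_assoc, Iso.hom_inv_id, Category.comp_id]
      rw [e1, Scheme.Hom.appTop, Scheme.Hom.app_eq_appLE]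
      exact (comp_appLE_apply c (Spec.map ρ) _ rfl _ _ _ _ _ _ r).symm
    let U' : Subalgebra Γ(Spec R, ⊤) Γ(X, π ⁻¹ᵁ V.1.1) := { U with algebraMap_mem' := hbase }
    have hU' : U' = ⊤ := eq_top_iff.2 (hG ▸ Algebra.adjoin_le fun g hg => by
      have := hF g hg
      refine (Subring.closure_le.2 ?_ this : g ∈ U)
      rintro _ (⟨r, rfl⟩ | ⟨a, ha, rfl⟩)
      exacts [h1 r, h3 a ha])
    exact (hU' ▸ Algebra.mem_top : x ∈ U')
  choose F hF using hgen
  let G : Finset A := Finset.univ.biUnion F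
  -- the finitely presented algebra
  let P : CommRingCat.{u} := CommRingCat.of (MvPolynomial {a : A // a ∈ G} R ⊗[ℤ] B₀)
  let ev : MvPolynomial {a : A // a ∈ G} R →+* A := MvPolynomial.eval₂Hom ρ.hom Subtype.val
  let α : R ⟶ P := CommRingCat.ofHom
    ((Algebra.TensorProduct.includeLeftRingHom (R := ℤ) (A := MvPolynomial {a : A // a ∈ G} R)
      (B := B₀)).comp MvPolynomial.C)
  let κ : B₀ ⟶ P := CommRingCat.ofHom
    (Algebra.TensorProduct.includeRight (R := ℤ) (A := MvPolynomial {a : A // a ∈ G} R) (B := B₀)).toRingHom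
  let β : P ⟶ A := CommRingCat.ofHom
    (Algebra.TensorProduct.lift ev.toIntAlgHom γ.hom.toIntAlgHom fun _ _ => Commute.all _ _).toRingHom
  have hαβ : α ≫ β = ρ := CommRingCat.hom_ext (RingHom.ext fun r => by
    refine (Algebra.TensorProduct.lift_tmul ev.toIntAlgHom γ.hom.toIntAlgHom (fun _ _ => Commute.all _ _) (MvPolynomial.C r) (1 : B₀)).trans ?_
    rw [map_one, mul_one]
    exact MvPolynomial.eval₂_C _ _ r)
  have hκβ : κ ≫ β = γ := CommRingCat.hom_ext (RingHom.ext fun r => by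
    refine (Algebra.TensorProduct.lift_tmul ev.toIntAlgHom γ.hom.toIntAlgHom (fun _ _ => Commute.all _ _) (1 : MvPolynomial {a : A // a ∈ G} R) r).trans ?_
    rw [map_one, one_mul]
    rfl)
  have hβG : ∀ a ∈ G, ∃ p, β p = a := fun a ha => ⟨(MvPolynomial.X ⟨a, ha⟩) ⊗ₜ[ℤ] (1 : B₀), by
    refine (Algebra.TensorProduct.lift_tmul ev.toIntAlgHom γ.hom.toIntAlgHom (fun _ _ => Commute.all _ _) (MvPolynomial.X (⟨a, ha⟩ : {a : A // a ∈ G})) (1 : B₀)).trans ?_
    rw [map_one, mul_one]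
    exact MvPolynomial.eval₂_X _ _ _⟩
  have hfp : α.hom.FinitePresentation := by
    haveI : Algebra.FinitePresentation ℤ B₀ := Algebra.FinitePresentation.of_finiteType.1 hft
    have h1 : (MvPolynomial.C : R →+* MvPolynomial {a : A // a ∈ G} R).FinitePresentation :=
      RingHom.finitePresentation_algebraMap.2 inferInstance
    have h2 : (Algebra.TensorProduct.includeLeftRingHom (R := ℤ) (A := MvPolynomial {a : A // a ∈ G} R)
        (B := B₀)).FinitePresentation :=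
      RingHom.finitePresentation_algebraMap.2
        (inferInstance : Algebra.FinitePresentation (MvPolynomial {a : A // a ∈ G} R)
          (MvPolynomial {a : A // a ∈ G} R ⊗[ℤ] B₀))
    exact h2.comp h1
  refine ⟨P, α, β, hαβ, hfp, ?_⟩
  -- the closed immersion
  let X₁ := pullback f₀ (Spec.map κ)
  have w' : π ≫ f₀ = (c ≫ Spec.map β) ≫ Spec.map κ := by
    rw [w, Category.assoc, ← Spec.map_comp, hκβ]
  let ρ' : X ⟶ X₁ := pullback.lift π (c ≫ Spec.map β) w'
  haveI : IsAffineHom (pullback.fst f₀ (Spec.map κ)) :=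
    MorphismProperty.pullback_fst (P := @IsAffineHom) f₀ (Spec.map κ) inferInstance
  have hcl : IsClosedImmersion ρ' := by
    let 𝒲 : 𝒱 → X₁.Opens := fun V => pullback.fst f₀ (Spec.map κ) ⁻¹ᵁ V.1.1
    have h𝒲 : iSup 𝒲 = ⊤ := by
      refine eq_top_iff.2 fun x _ => ?_
      have hx : pullback.fst f₀ (Spec.map κ) x ∈ (⊤ : X₀.Opens) := trivial
      rw [hcov] at hx
      simp only [Opens.mem_iSup] at hx
      obtain ⟨V, hV, hxV⟩ := hx
      exact Opens.mem_iSup.2 ⟨⟨V, hV⟩, hxV⟩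
    rw [IsZariskiLocalAtTarget.iff_of_iSup_eq_top (P := @IsClosedImmersion) 𝒲 h𝒲]
    intro V
    have hpre : ∀ W : X₀.Opens, ρ' ⁻¹ᵁ (pullback.fst f₀ (Spec.map κ) ⁻¹ᵁ W) = π ⁻¹ᵁ W := fun W => by
      rw [← Scheme.Hom.comp_preimage, pullback.lift_fst]
    have haff : IsAffineOpen (𝒲 V) := V.1.2.preimage _
    haveI : IsAffine (𝒲 V).toScheme := haff
    rw [HasAffineProperty.iff_of_isAffine (P := @IsClosedImmersion)]
    refine ⟨show IsAffineOpen (ρ' ⁻¹ᵁ 𝒲 V) from (hpre _).symm ▸ V.1.2.preimage π, ?_⟩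
    have hT : ∀ (W : X.Opens) (e : W ≤ ρ' ⁻¹ᵁ 𝒲 V), W = π ⁻¹ᵁ V.1.1 →
        Function.Surjective (ρ'.appLE (𝒲 V) W e) := by
      rintro _ e rfl
      let T : Subring Γ(X, π ⁻¹ᵁ V.1.1) := (ρ'.appLE (𝒲 V) _ e).hom.range
      suffices T = ⊤ from fun x => RingHom.mem_range.1 (this ▸ Subring.mem_top x : x ∈ T)
      have hφ : ∀ p : P, φ V.1.1 (β p) ∈ T := fun p => by
        refine ⟨(pullback.snd f₀ (Spec.map κ)).appLE ⊤ (𝒲 V) le_top ((Scheme.ΓSpecIso P).inv p), ?_⟩
        show ρ'.appLE (𝒲 V) _ e _ = c.appLE ⊤ _ le_top ((Scheme.ΓSpecIso A).inv (β p))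
        have e1 : (Scheme.ΓSpecIso A).inv (β p) = (Spec.map β).appTop ((Scheme.ΓSpecIso P).inv p) :=
          ConcreteCategory.congr_hom (Scheme.ΓSpecIso_inv_naturality β) p
        rw [e1, Scheme.Hom.appTop, Scheme.Hom.app_eq_appLE]
        exact (comp_appLE_apply ρ' (pullback.snd f₀ (Spec.map κ)) (c ≫ Spec.map β) (pullback.lift_snd _ _ _)
          _ _ _ _ _ le_top _).trans (comp_appLE_apply c (Spec.map β) _ rfl _ _ _ _ _ le_top _).symm
      refine hF V T (fun r => ⟨(pullback.fst f₀ (Spec.map κ)).app V.1.1 r, ?_⟩) (fun r => ?_) fun a ha => ?_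
      · show ρ'.appLE (𝒲 V) _ e _ = _
        rw [Scheme.Hom.app_eq_appLE, Scheme.Hom.app_eq_appLE]
        exact comp_appLE_apply ρ' (pullback.fst f₀ (Spec.map κ)) π (pullback.lift_fst _ _ _) _ _ _ _ _ _ r
      · have := hφ (α r)
        rwa [show β (α r) = ρ r from ConcreteCategory.congr_hom hαβ r] at this
      · obtain ⟨p, rfl⟩ := hβG a (Finset.mem_biUnion.2 ⟨V, Finset.mem_univ _, ha⟩)
        exact hφ p
    have hs : Function.Surjective (ρ'.app (𝒲 V)) := by
      rw [Scheme.Hom.app_eq_appLE]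
      exact hT _ le_rfl (hpre _)
    rw [Scheme.Hom.appTop, morphismRestrict_app]
    intro y
    obtain ⟨z, hz⟩ := (ConcreteCategory.bijective_of_isIso
      (X.presheaf.map (eqToHom (image_morphismRestrict_preimage ρ' (𝒲 V) ⊤)).op)).2 y
    have key : ∀ W : X₁.Opens, W = 𝒲 V → Function.Surjective (ρ'.app W) := by rintro _ rfl; exact hs
    obtain ⟨x, hx⟩ := key _ (𝒲 V).ι_image_top z
    exact ⟨x, (congrArg _ hx).trans hz⟩
  have e : c ≫ Spec.map β = ρ' ≫ pullback.snd f₀ (Spec.map κ) := (pullback.lift_snd _ _ _).symm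
  rw [e]
  refine ⟨inferInstance, fun z => ?_⟩
  have hsq := IsPullback.of_hasPullback f₀ (Spec.map κ)
  have h1 := Groth.Agent.Lib.Amp36.Contraction.Fibres.dim_fibre f₀ hsq z (hd₀ (Spec.map κ z))
  rw [FibreDim.Basic.topologicalKrullDim_fiber] at h1 ⊢
  refine le_trans ?_ h1
  exact ((ρ'.isClosedEmbedding.isInducing.restrictPreimage
    (pullback.snd f₀ (Spec.map κ) ⁻¹' {z})).topologicalKrullDim_le)

end

end Groth.Agent.Lib.SurjNear64.Factor
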