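import Groth.Agent.Lib.Amp36.DegreeZero
import Groth.Agent.H34.Stein.Finite

/-!
# Finiteness of global functions of a base change, without higher cohomology
-/

set_option autoImplicit false
set_option linter.style.haveILetI false
universe u

open CategoryTheory Limits AlgebraicGeometry Opposite TopologicalSpace

namespace Groth.Agent.Lib.SurjNear64.Span

open Groth.Agent.Lib Groth.Agent.Lib.Amp36 Groth.Agent.Lib.FlatCxW.Watts ZarCoh.Exchange.Sections
  TopDegree TopVanish
open Groth.Agent.Lib.Amp36.Chart (O₁)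
open Groth.Agent.Lib.Amp36.DegreeZero (natural_smul h0 h0_smul)

noncomputable section

section
variable {A A' : Type u} [CommRing A] [CommRing A'] [Algebra A A'] {X X' : Scheme.{u}}
  [X.Over (Spec (CommRingCat.of A))] [X'.Over (Spec (CommRingCat.of A'))]
  [QuasiCompact (X ↘ Spec (CommRingCat.of A))] [IsSeparated (X ↘ Spec (CommRingCat.of A))]

/-- Generators for the base give generators after base change. -/
theorem finite_of_natIso (F : X.Modules) [F.IsQuasicoherent] (M : X'.Modules)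
    (hs : ∀ {L N : ModuleCat.{u} A} (g : L ⟶ N), Epi g → Function.Surjective (HT A F 0 g))
    (b : CohIII.tensorAFunctor A' M ⋙ CohIII.HAb X' 0 ≅
      ZarCoh.Exchange.ExtScalars.res (A := A) (B := A') ⋙ CohIII.tensorAFunctor A F ⋙ CohIII.HAb X 0)
    (hfin : Module.Finite A (Coh.HH X (G F (ModuleCat.of A A)) 0)) :
    Module.Finite A' (Coh.HH X' (G M (ModuleCat.of A' A')) 0) := by
  classical
  obtain ⟨n, c, hc⟩ := @Module.Finite.exists_fin A _ _ _ _ hfin
  let N : ModuleCat.{u} A' := ModuleCat.of A' A'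
  let rs := ZarCoh.Exchange.ExtScalars.res (A := A) (B := A')
  let R' : ModuleCat.{u} A := rs.obj N
  let toR : A' → R' := fun t => t
  let E : Coh.HH X' (G M N) 0 ≃+ Coh.HH X (G F R') 0 := (b.app N).addCommGroupIsoToAddEquiv
  let z : Fin n → Coh.HH X' (G M N) 0 := fun i => E.symm (HT A F 0 (θ R' (toR 1)) (c i))
  refine ⟨⟨Finset.univ.image z, eq_top_iff.2 fun w _ => ?_⟩⟩
  rw [Finset.coe_image, Finset.coe_univ, Set.image_univ]
  have hlin : ∀ (t : A') (i : Fin n), E (t • z i) = HT A F 0 (rs.map (t • 𝟙 N)) (E (z i)) := fun t i => by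
    rw [← HT_smul A' M 0 t (z i)]
    exact natural_smul F M b N (t • 𝟙 N) (z i)
  have hone : ∀ (t : A') (i : Fin n), HT A F 0 (θ R' (toR t)) (c i) = E (t • z i) := fun t i => by
    rw [hlin, AddEquiv.apply_symm_apply, ← HT_comp]
    congr 2
    refine ModuleCat.hom_ext (LinearMap.ext fun a => ?_)
    show algebraMap A A' a * t = t * (algebraMap A A' a * 1)
    rw [mul_one, mul_comm]
  obtain ⟨l, m, x, hw⟩ := exists_sum A F 0 (fun g hg => hs g hg) (E w)
  have hw' : w = ∑ k, E.symm (HT A F 0 (θ R' (m k)) (x k)) := by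
    rw [← map_sum, ← hw, AddEquiv.symm_apply_apply]
  rw [hw']
  refine Submodule.sum_mem _ fun k _ => ?_
  have hx : x k ∈ Submodule.span A (Set.range c) := hc ▸ Submodule.mem_top
  obtain ⟨a, ha⟩ := (Submodule.mem_span_range_iff_exists_fun A).1 hx
  rw [← ha, map_sum, map_sum]
  refine Submodule.sum_mem _ fun i _ => ?_
  have : HT A F 0 (θ R' (m k)) (a i • c i) =
      HT A F 0 (θ R' (toR (algebraMap A A' (a i) * (show A' from m k)))) (c i) := by
    rw [← HT_smul, ← HT_comp]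
    congr 2
    refine ModuleCat.hom_ext (LinearMap.ext fun t => ?_)
    show algebraMap A A' (a i * t) * (show A' from m k) =
      algebraMap A A' t * (algebraMap A A' (a i) * (show A' from m k))
    rw [map_mul, mul_assoc, mul_left_comm]
  rw [this, hone, AddEquiv.symm_apply_apply]
  exact Submodule.smul_mem _ _ (Submodule.subset_span ⟨i, rfl⟩)

end

section
variable (A : Type u) [CommRing A] {X : Scheme.{u}} [X.Over (Spec (CommRingCat.of A))]

/-- The structure map on global functions. -/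
def glob {X : Scheme.{u}} (p : X ⟶ Spec (CommRingCat.of A)) : A →+* Γ(X, ⊤) :=
  ((Scheme.ΓSpecIso (CommRingCat.of A)).inv ≫ p.appTop).hom

/-- Finiteness of degree zero cohomology and of global functions. -/
theorem finite_h0_iff : Module.Finite A (Coh.HH X (O₁ X) 0) ↔
    (glob A (X ↘ Spec (CommRingCat.of A))).Finite := by
  letI := (glob A (X ↘ Spec (CommRingCat.of A))).toAlgebra
  let e₀ : Coh.HH X (O₁ X) 0 ≃+ Γ(X, ⊤) := h0
  let e : Coh.HH X (O₁ X) 0 ≃ₗ[A] Γ(X, ⊤) :=
    { e₀ with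
      map_smul' := fun a x => (h0_smul A a x).trans
        (Algebra.smul_def (A := Γ(X, ⊤)) a (e₀ x)).symm }
  exact ⟨fun _ => Module.Finite.equiv e, fun h => haveI : Module.Finite A Γ(X, ⊤) := h
    Module.Finite.equiv e.symm⟩

end

variable {X Y : Scheme.{u}} (f : X ⟶ Y) {W : Y.Opens} (hW : IsAffineOpen W)

include hW in
/-- Finiteness on the chart. -/
theorem finite_toGlobal_iff :
    (glob Γ(Y, W) (Chart.π f hW)).Finite ↔ (f.app W).hom.Finite := by
  let σ : Γ(Y, W) ≃+* Γ(W.toScheme, ⊤) :=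
    ((Scheme.ΓSpecIso (CommRingCat.of Γ(Y, W))).symm.trans
      (Scheme.Γ.mapIso hW.isoSpec.op)).commRingCatIsoToRingEquiv
  have h1 : (glob Γ(Y, W) (Chart.π f hW)).Finite ↔ (f ∣_ W).appTop.hom.Finite := by
    have : glob Γ(Y, W) (Chart.π f hW) = (f ∣_ W).appTop.hom.comp σ.toRingHom := by
      ext a
      show (f ∣_ W ≫ hW.isoSpec.hom).appTop ((Scheme.ΓSpecIso _).inv a) = _
      rw [Scheme.Hom.comp_appTop]
      rfl
    rw [this]
    exact ⟨RingHom.Finite.of_comp_finite, fun h => h.comp (RingHom.Finite.of_surjective _ σ.surjective)⟩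
  rw [h1, morphismRestrict_appTop]
  have h2 : (f.app (W.ι ''ᵁ ⊤)).hom.Finite ↔ (f.app W).hom.Finite := by
    have h : ∀ V : Y.Opens, V = W → ((f.app V).hom.Finite ↔ (f.app W).hom.Finite) := by
      rintro V rfl; rfl
    exact h _ W.ι_image_top
  rw [← h2]
  let τ := (X.presheaf.mapIso
    (eqToIso (image_morphismRestrict_preimage f W ⊤)).op).commRingCatIsoToRingEquiv
  show (τ.toRingHom.comp (f.app (W.ι ''ᵁ ⊤)).hom).Finite ↔ _
  refine ⟨fun h => ?_, fun h => (RingHom.Finite.of_surjective _ τ.surjective).comp h⟩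
  have h' := (RingHom.Finite.of_surjective τ.symm.toRingHom τ.symm.surjective).comp h
  rwa [← RingHom.comp_assoc, RingEquiv.symm_toRingHom_comp_toRingHom, RingHom.id_comp] at h'

include hW in
/-- Base change of a finite algebra of functions, on small affines. -/
theorem finite_app [IsProper f] (hd : ∀ y ∈ W, topologicalKrullDim ↥(f.fiber y) ≤ ((1 : ℕ) : WithBot ℕ∞))
    (hH : ∀ y ∈ W, Subsingleton (Coh.HH (f.fiber y) (O₁ _) 1))
    (hs : (f.app W).hom.Finite) {X' Y' : Scheme.{u}} {f' : X' ⟶ Y'} {g' : X' ⟶ X}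
    {g : Y' ⟶ Y} (hc : IsPullback g' f' f g) {U : Y'.Opens} (hU : IsAffineOpen U)
    (e : U ≤ g ⁻¹ᵁ W) : (f'.app U).hom.Finite := by
  letI := Chart.ov f hW
  letI := Chart.ov f' hU
  letI : Algebra Γ(Y, W) Γ(Y', U) := (g.appLE W U e).hom.toAlgebra
  haveI := Chart.isProper_ov f hW
  obtain ⟨M, i, ⟨b⟩⟩ := Chart.nonempty_natIso f hW hc hU e 0
  have hv : Van (f ⁻¹ᵁ W).toScheme (0 + 2) := Chart.van f hW 1 hd 1 le_rfl
  have hz : ∀ M, Zero Γ(Y, W) (O₁ (f ⁻¹ᵁ W).toScheme) (0 + 1) M := Chart.zero_all f hW 1 hd hH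
  have h0 : Module.Finite Γ(Y, W) (Coh.HH (f ⁻¹ᵁ W).toScheme (O₁ _) 0) :=
    (finite_h0_iff Γ(Y, W)).2 ((finite_toGlobal_iff f hW).2 hs)
  let o := Curves.LES.isoK Γ(Y, W) (ZarCoh.Exchange.Main.oneIso Γ(Y, W) (O₁ (f ⁻¹ᵁ W).toScheme)) 0
  have h1 := finite_of_natIso (O₁ (f ⁻¹ᵁ W).toScheme) M
    (fun g hg => HT_surjective' Γ(Y, W) _ hv hz g) b (Module.Finite.equiv o.symm)
  let o' := Curves.LES.isoK Γ(Y', U) ((ZarCoh.Exchange.Main.oneIso Γ(Y', U) M) ≪≫ i) 0
  exact (finite_toGlobal_iff f' hU).1 ((finite_h0_iff Γ(Y', U)).1 (Module.Finite.equiv o'))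

end

end Groth.Agent.Lib.SurjNear64.Span
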