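import Groth.Agent.Lib.SurjNear64.Factor
import Groth.Agent.Lib.SurjNear64.Span
import Groth.Agent.Lib.Amp36.Contraction.Main

/-!
# Finiteness of `c_* O` for a proper morphism with small fibres and flat finitely presented source
-/

set_option autoImplicit false
set_option linter.style.haveILetI false

universe u

open CategoryTheory Limits AlgebraicGeometry TopologicalSpace

namespace Groth.Agent.Lib.SurjNear64.FiniteNear

open Groth.Agent.Lib Groth.Agent.Lib.Amp36 Groth.Agent.Lib.Amp36.Contraction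
open Groth.Agent.Lib.Amp36.Contraction.Fibres (Small)
open Groth.Agent.Lib.Amp36.Chart (O₁)

noncomputable section

/-- Over an affine base, small fibres follow from vanishing of the global first cohomology. -/
theorem small_of_affine {X Y : Scheme.{u}} [IsAffine Y] (c : X ⟶ Y) [IsProper c]
    (hd : ∀ y : Y, topologicalKrullDim ↥(c.fiber y) ≤ ((1 : ℕ) : WithBot ℕ∞))
    (h1 : Subsingleton (Coh.HH X (O₁ X) 1)) : Small c ⊤ := fun y _ => by
  refine ⟨hd y, ?_⟩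
  have hU := isAffineOpen_top Y
  obtain ⟨e⟩ := Chart.nonempty_top (c ⁻¹ᵁ ⊤).ι (by simp) (O₁ X) 1
  have h2 : Subsingleton (Coh.HH (c ⁻¹ᵁ ⊤).toScheme (O₁ _) 1) :=
    @Equiv.subsingleton _ _ (e.symm.toEquiv.trans
      ((CohIII.HAb _ 1).mapIso
        (Scheme.Modules.restrictUnitIso (c ⁻¹ᵁ ⊤).ι)).addCommGroupIsoToAddEquiv.toEquiv).symm h1
  letI := Chart.ov c hU
  haveI := Chart.isProper_ov c hU
  have e1 : (⊤ : Y.Opens) ≤ (𝟙 Y : Y ⟶ Y) ⁻¹ᵁ ⊤ := fun _ _ => trivial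
  letI : Algebra Γ(Y, ⊤) Γ(Y, ⊤) := ((𝟙 Y : Y ⟶ Y).appLE ⊤ ⊤ e1).hom.toAlgebra
  have h0 := (Chart.subsingleton_iff c hU (f' := c) (g' := 𝟙 X) (g := 𝟙 Y)
    (IsPullback.of_horiz_isIso ⟨by simp⟩) hU e1 1).1 h2
  refine (Chart.fiber_iff c hU 1 (fun t _ => hd t) (y := y) trivial).2
    (TopVanish.zero_residueField_of_algebra Γ(Y, ⊤) _ (Chart.van c hU 1 (fun t _ => hd t) 1 le_rfl)
      Γ(Y, ⊤) h0 (hU.primeIdealOf ⟨y, trivial⟩).asIdeal _ ?_)
  exact (congrArg PrimeSpectrum.asIdeal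
    (IsAffineOpen.comap_primeIdealOf_appLE (f := 𝟙 Y) (x := y) ⊤ hU ⊤ hU e1 trivial)).symm

/-- Finiteness near every point. -/
theorem exists_finite {A R : CommRingCat.{u}} {X : Scheme.{u}} (c : X ⟶ Spec A) (ρ : R ⟶ A)
    [IsProper c] [LocallyOfFinitePresentation (c ≫ Spec.map ρ)] [Flat (c ≫ Spec.map ρ)]
    (hs : Small c ⊤) (y : ↥(Spec A)) :
    ∃ D : (Spec A).Opens, IsAffineOpen D ∧ y ∈ D ∧ (c.app D).hom.Finite := by
  obtain ⟨P, α, β, hαβ, hfp, hp, hd'⟩ := Factor.exists_factor c ρ fun s => (hs s trivial).1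
  let q := Spec.map β
  let c' := c ≫ q
  haveI : IsProper c' := hp
  haveI : LocallyOfFinitePresentation (Spec.map α) :=
    (HasRingHomProperty.Spec_iff (P := @LocallyOfFinitePresentation)).2 hfp
  have e : c' ≫ Spec.map α = c ≫ Spec.map ρ := by
    simp only [c', q, Category.assoc, ← Spec.map_comp, hαβ]
  haveI : LocallyOfFinitePresentation (c' ≫ Spec.map α) := e ▸ inferInstance
  haveI : Flat (c' ≫ Spec.map α) := e ▸ inferInstance
  haveI : LocallyOfFinitePresentation c' := Lim.OpenImm.lfp_of_comp c' (Spec.map α)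
  obtain ⟨S₀, X₀, Y₀, π, qX, qY, f₀, h₀, hnS, haS, hY₀, hX₀, hh₀, hpr, hfl⟩ :=
    Contraction.Model.exists_model c' (Spec.map α)
  haveI := hnS
  haveI := hh₀
  haveI := hpr
  haveI : IsLocallyNoetherian Y₀ := LocallyOfFiniteType.isLocallyNoetherian h₀
  have hs' : Small c' ⊤ := small_of_affine c' hd' (Bijective.subsingleton_H1 c hs)
  let y' := q y
  have hd₀ := Fibres.dim_fibre' f₀ hX₀ y' (hd' y')
  have hH₀ := Fibres.H1_fibre f₀ hX₀ y' hd₀ ⊤ trivial
    fun U _ hU => Fibres.subsingleton_HH c' hU (hs'.mono le_top)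
  obtain ⟨V₁, hyV₁, hsV₁⟩ := Fibres.exists_small f₀ hd₀ hH₀
  obtain ⟨W₀, hW₀, hyW₀, hW₀V⟩ := exists_isAffineOpen_mem_and_subset hyV₁
  obtain ⟨U, hU, hyU, hUW⟩ := exists_isAffineOpen_mem_and_subset (x := y') (U := qY ⁻¹ᵁ W₀) hyW₀
  have hfin : (c'.app U).hom.Finite := Span.finite_app f₀ hW₀
    (fun t ht => (hsV₁ t (hW₀V ht)).1) (fun t ht => (hsV₁ t (hW₀V ht)).2)
    (H34.Stein.finite_app f₀ hW₀) hX₀ hU hUW
  haveI : IsAffineHom q := isAffineHom_of_isAffine q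
  exact ⟨q ⁻¹ᵁ U, hU.preimage q, hyU, RingHom.Finite.of_comp_finite (f := (q.app U).hom) hfin⟩

end

end Groth.Agent.Lib.SurjNear64.FiniteNear
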