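import Groth.Agent.Lib.SurjNear64.FiniteNear
import Groth.Agent.Lib.Amp36.Contraction.NearPoint

/-!
# Surjectivity of `O_Y ⟶ c_* O_X` near a fibre where it holds
-/

set_option autoImplicit false
set_option linter.style.haveILetI false

universe u

open CategoryTheory Limits AlgebraicGeometry TopologicalSpace
open scoped TensorProduct

namespace Groth.Agent.Lib.SurjNear64.Main

open Groth.Agent.Lib Groth.Agent.Lib.Amp36 Groth.Agent.Lib.Amp36.Contraction
open Groth.Agent.Lib.Amp36.Contraction.Fibres (Small)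
open Groth.Agent.Lib.Amp36.Contraction.Main (isPullback_of_comp_mono isPullback_fiberMap flat_ι_comp_iff)

noncomputable section

/-- The map of tensor products behind a surjective map of pushouts. -/
theorem surjective_lTensor_of_pushoutMap {R A B K : CommRingCat.{u}} (a : R ⟶ A) (φ : A ⟶ B) (k : R ⟶ K)
    (h : Function.Surjective
      (pushout.map a k (a ≫ φ) k φ (𝟙 K) (𝟙 R) (by simp) (by simp))) :
    letI := a.hom.toAlgebra; letI := (a ≫ φ).hom.toAlgebra; letI := k.hom.toAlgebra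
    ∀ ψ : A →ₗ[R] B, (∀ x, ψ x = φ x) → Function.Surjective (ψ.lTensor K) := by
  letI := a.hom.toAlgebra; letI := (a ≫ φ).hom.toAlgebra; letI := k.hom.toAlgebra
  intro ψ hψ
  let φ' : A →ₐ[R] B := { φ.hom with commutes' := fun _ => rfl }
  let Φ := Algebra.TensorProduct.map (AlgHom.id R K) φ'
  have hA : IsPushout a k (CommRingCat.ofHom (S := K ⊗[R] A) Algebra.TensorProduct.includeRight.toRingHom)
      (CommRingCat.ofHom (S := K ⊗[R] A) Algebra.TensorProduct.includeLeftRingHom) :=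
    (CommRingCat.isPushout_tensorProduct R K A).flip
  have hB : IsPushout (a ≫ φ) k (CommRingCat.ofHom (S := K ⊗[R] B) Algebra.TensorProduct.includeRight.toRingHom)
      (CommRingCat.ofHom (S := K ⊗[R] B) Algebra.TensorProduct.includeLeftRingHom) :=
    (CommRingCat.isPushout_tensorProduct R K B).flip
  have key : hA.isoPushout.hom ≫ pushout.map a k (a ≫ φ) k φ (𝟙 K) (𝟙 R) (by simp) (by simp) =
      CommRingCat.ofHom Φ.toRingHom ≫ hB.isoPushout.hom := by
    have h1 : CommRingCat.ofHom (S := K ⊗[R] A) Algebra.TensorProduct.includeRight.toRingHom ≫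
        CommRingCat.ofHom Φ.toRingHom =
        φ ≫ CommRingCat.ofHom (S := K ⊗[R] B) Algebra.TensorProduct.includeRight.toRingHom :=
      CommRingCat.hom_ext (RingHom.ext fun x => by
        show Φ ((1 : K) ⊗ₜ[R] (show A from x)) = (1 : K) ⊗ₜ[R] (φ x)
        simp [Φ]; rfl)
    have h2 : CommRingCat.ofHom (S := K ⊗[R] A) Algebra.TensorProduct.includeLeftRingHom ≫
        CommRingCat.ofHom Φ.toRingHom =
        CommRingCat.ofHom (S := K ⊗[R] B) Algebra.TensorProduct.includeLeftRingHom :=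
      CommRingCat.hom_ext (RingHom.ext fun x => by
        show Φ ((show K from x) ⊗ₜ[R] (1 : A)) = (show K from x) ⊗ₜ[R] (1 : B)
        simp [Φ])
    refine hA.hom_ext ?_ ?_
    · rw [hA.inl_isoPushout_hom_assoc, pushout.inl_desc, reassoc_of% h1, hB.inl_isoPushout_hom]
    · rw [hA.inr_isoPushout_hom_assoc, pushout.inr_desc, reassoc_of% h2, hB.inr_isoPushout_hom,
        Category.id_comp]
  have h3 : Function.Surjective (⇑(hB.isoPushout.hom) ∘ ⇑Φ) := by
    have e : ⇑(hB.isoPushout.hom) ∘ ⇑Φ = ⇑(pushout.map a k (a ≫ φ) k φ (𝟙 K) (𝟙 R) (by simp) (by simp))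
        ∘ ⇑(hA.isoPushout.hom) :=
      funext fun x => (ConcreteCategory.congr_hom key x).symm
    rw [e]
    exact h.comp (ConcreteCategory.bijective_of_isIso hA.isoPushout.hom).2
  have h4 : Function.Surjective Φ :=
    fun y => (h3 (hB.isoPushout.hom y)).imp fun x hx =>
      (ConcreteCategory.bijective_of_isIso hB.isoPushout.hom).1 hx
  have h5 : ⇑(ψ.lTensor K) = ⇑Φ := funext fun z => by
    induction z using TensorProduct.induction_on with
    | zero => simp only [map_zero]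
    | tmul x y =>
      simp only [LinearMap.lTensor_tmul, hψ, Φ, Algebra.TensorProduct.map_tmul, AlgHom.id_apply]
      rfl
    | add x y hx hy => simp only [map_add, hx, hy]
  rw [h5]
  exact h4

section

variable {X Y S : Scheme.{u}} (c : X ⟶ Y) (g : Y ⟶ S) [IsAffine Y] [IsAffine S] [IsProper c]
  (hs : Small c ⊤) [Flat (c ≫ g)] {T Y' X' : Scheme.{u}} [IsAffine T] {b : T ⟶ S} {g' : Y' ⟶ T}
  {q : Y' ⟶ Y} {c' : X' ⟶ Y'} {qX : X' ⟶ X} (hY : IsPullback q g' g b) (hX : IsPullback qX c' c q)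

include hs hY hX

/-- Surjectivity after base change in terms of tensor products. -/
theorem surjective_lTensor (h : Function.Surjective c'.appTop) :
    letI := (g.appLE ⊤ ⊤ le_top).hom.toAlgebra
    letI := (g.appLE ⊤ ⊤ le_top ≫ c.appLE ⊤ ⊤ le_top).hom.toAlgebra
    letI := (b.appLE ⊤ ⊤ le_top).hom.toAlgebra
    ∀ ψ : Γ(Y, ⊤) →ₗ[Γ(S, ⊤)] Γ(X, ⊤), (∀ x, ψ x = c.appTop x) →
      Function.Surjective (ψ.lTensor Γ(T, ⊤)) := by
  obtain ⟨h1, h2, h3⟩ := Bijective.base_square c g hs hY hX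
  have e : ∀ {V W : Scheme.{u}} (f : V ⟶ W), f.appLE ⊤ ⊤ le_top = f.appTop := fun f =>
    (Scheme.Hom.app_eq_appLE f).symm
  intro ψ hψ
  refine surjective_lTensor_of_pushoutMap (g.appLE ⊤ ⊤ le_top) (c.appLE ⊤ ⊤ le_top)
    (b.appLE ⊤ ⊤ le_top) ?_ ψ (fun x => (hψ x).trans (congr($(e c) x)).symm)
  rw [← e c'] at h
  have h4 := h.comp h2.2
  let P := (pushout.congrHom (Scheme.Hom.appLE_comp_appLE c g ⊤ ⊤ ⊤ le_top le_top)
      (rfl : b.appLE ⊤ ⊤ le_top = b.appLE ⊤ ⊤ le_top)).hom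
  have hP : Function.Injective (⇑(pushoutSection (hX.paste_vert hY) (US := ⊤) (UT := ⊤) (UX := ⊤) (UY := ⊤)
      le_top le_top (by simp)) ∘ ⇑P) := h1.comp (ConcreteCategory.bijective_of_isIso P).1
  have e4 : ⇑(c'.appLE ⊤ ⊤ le_top) ∘ ⇑(pushoutSection hY (US := ⊤) (UT := ⊤) (UX := ⊤) (UY := ⊤) le_top le_top (by simp)) =
      (⇑(pushoutSection (hX.paste_vert hY) (US := ⊤) (UT := ⊤) (UX := ⊤) (UY := ⊤)
        le_top le_top (by simp)) ∘ ⇑P) ∘
      ⇑(pushout.map (g.appLE ⊤ ⊤ le_top) (b.appLE ⊤ ⊤ le_top)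
            (g.appLE ⊤ ⊤ le_top ≫ c.appLE ⊤ ⊤ le_top) (b.appLE ⊤ ⊤ le_top)
            (c.appLE ⊤ ⊤ le_top) (𝟙 _) (𝟙 _) (by simp) (by simp)) :=
    funext fun x => ConcreteCategory.congr_hom h3 x
  rw [e4] at h4
  exact fun y => (h4 _).imp fun x hx => hP hx

end

/-- Finiteness near a point, for affine target and base. -/
theorem exists_finite_affine {X Y S : Scheme.{u}} [IsAffine Y] [IsAffine S] (c : X ⟶ Y) (g : Y ⟶ S)
    [IsProper c] [LocallyOfFinitePresentation (c ≫ g)] [Flat (c ≫ g)] (hs : Small c ⊤) (y : Y) :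
    ∃ D : Y.Opens, IsAffineOpen D ∧ y ∈ D ∧ (c.app D).hom.Finite := by
  have e : (c ≫ Y.isoSpec.hom) ≫ Spec.map g.appTop = (c ≫ g) ≫ S.isoSpec.hom := by
    rw [Category.assoc, Scheme.isoSpec_hom_naturality, Category.assoc]
  haveI : LocallyOfFinitePresentation ((c ≫ Y.isoSpec.hom) ≫ Spec.map g.appTop) := by
    rw [e]; infer_instance
  haveI : Flat ((c ≫ Y.isoSpec.hom) ≫ Spec.map g.appTop) := by rw [e]; infer_instance
  have hs' : Small (c ≫ Y.isoSpec.hom) ⊤ := fun z _ =>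
    Fibres.small_baseChange c (c' := c ≫ Y.isoSpec.hom) (qX := 𝟙 X) (q := Y.isoSpec.inv)
      (IsPullback.of_horiz_isIso ⟨by simp⟩) hs z trivial
  obtain ⟨D, hD, hyD, hfin⟩ := FiniteNear.exists_finite (c ≫ Y.isoSpec.hom) g.appTop hs' (Y.isoSpec.hom y)
  exact ⟨Y.isoSpec.hom ⁻¹ᵁ D, hD.preimage_of_isIso Y.isoSpec.hom, hyD,
    RingHom.Finite.of_comp_finite (f := (Y.isoSpec.hom.app D).hom) hfin⟩

/-- Surjectivity on small enough affines glues. -/
theorem surjective_app_of_locally {X Y : Scheme.{u}} (c : X ⟶ Y) [QuasiCompact c] [QuasiSeparated c]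
    {U : Y.Opens} (hU : IsAffineOpen U)
    (h : ∀ x ∈ U, ∃ W : Y.Opens, x ∈ W ∧
      ∀ B : Y.Opens, B ≤ W → IsAffineOpen B → Function.Surjective (c.app B)) :
    Function.Surjective (c.app U) := by
  intro z
  have hc : IsCompact (c ⁻¹ᵁ U).1 := c.isCompact_preimage hU.isCompact
  have hq : IsQuasiSeparated (c ⁻¹ᵁ U).1 := c.isQuasiSeparated_preimage hU.isQuasiSeparated
  let J : Ideal Γ(Y, U) :=
    { carrier := {a | ∃ b, c.app U b = c.app U a * z}
      zero_mem' := ⟨0, by rw [map_zero, zero_mul]⟩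
      add_mem' := by
        rintro a a' ⟨b, hb⟩ ⟨b', hb'⟩
        exact ⟨b + b', by rw [map_add, map_add, hb, hb', add_mul]⟩
      smul_mem' := by
        rintro r a ⟨b, hb⟩
        exact ⟨r * b, by rw [smul_eq_mul, map_mul, map_mul, hb, mul_assoc]⟩ }
  suffices J = ⊤ by
    obtain ⟨b, hb⟩ := (this ▸ Submodule.mem_top : (1 : Γ(Y, U)) ∈ J)
    exact ⟨b, by rw [hb, map_one, one_mul]⟩
  by_contra hne
  obtain ⟨m, hm, hle⟩ := Ideal.exists_le_maximal J hne
  let p : PrimeSpectrum Γ(Y, U) := ⟨m, hm.isPrime⟩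
  let x := hU.fromSpec p
  have hxU : x ∈ U := by
    show x ∈ (U : Set Y)
    rw [← hU.range_fromSpec]
    exact ⟨p, rfl⟩
  obtain ⟨W, hxW, hW⟩ := h x hxU
  obtain ⟨r, hrW, hxr⟩ := hU.exists_basicOpen_le (V := W) ⟨x, hxW⟩ hxU
  have hrm : r ∉ m := by
    have h1 : p ∈ hU.fromSpec ⁻¹ᵁ Y.basicOpen r := hxr
    rw [hU.fromSpec_preimage_basicOpen] at h1
    exact h1
  have hD := hW _ hrW (hU.basicOpen r)
  haveI := hU.isLocalization_basicOpen r
  have key : ∀ (W' : X.Opens) (e : W' ≤ c ⁻¹ᵁ Y.basicOpen r), W' = X.basicOpen (c.app U r) →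
      Function.Surjective (c.appLE (Y.basicOpen r) W' e) → ∃ n, r ^ n ∈ J := by
    rintro W' e rfl hs
    have := isLocalization_basicOpen_of_qcqs hc hq (c.app U r)
    obtain ⟨w, hw⟩ := hs (algebraMap Γ(X, c ⁻¹ᵁ U) Γ(X, X.basicOpen (c.app U r)) z)
    obtain ⟨⟨b, ⟨_, n, rfl⟩⟩, hb⟩ := IsLocalization.surj (Submonoid.powers r) w
    have hn : ∀ a, c.appLE (Y.basicOpen r) _ e (algebraMap Γ(Y, U) Γ(Y, Y.basicOpen r) a) =
        algebraMap Γ(X, c ⁻¹ᵁ U) Γ(X, X.basicOpen (c.app U r)) (c.app U a) := fun a => by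
      show (Y.presheaf.map _ ≫ c.appLE _ _ e) a = (c.app U ≫ X.presheaf.map _) a
      rw [Scheme.Hom.map_appLE]
      rfl
    have h1 := congrArg (c.appLE (Y.basicOpen r) _ e) hb
    rw [map_mul, hw, hn, hn, ← map_mul] at h1
    obtain ⟨⟨_, k, rfl⟩, hk⟩ :=
      (IsLocalization.eq_iff_exists (Submonoid.powers (c.app U r)) _).1 h1
    refine ⟨k + n, r ^ k * b, ?_⟩
    simp only [map_mul, map_pow] at hk ⊢
    rw [← hk, pow_add]
    ring
  obtain ⟨n, hn⟩ := key _ le_rfl (c.preimage_basicOpen r) (by rw [← Scheme.Hom.app_eq_appLE]; exact hD)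
  exact hrm (hm.isPrime.mem_of_pow_mem n (hle hn))

/-- Surjectivity on a restriction. -/
theorem surjective_restrict {X Y : Scheme.{u}} (c : X ⟶ Y) (V : Y.Opens) (D : V.toScheme.Opens)
    (h : Function.Surjective ((c ∣_ V).app D)) : Function.Surjective (c.app (V.ι ''ᵁ D)) := by
  have e : ⇑((c ∣_ V).app D) =
      ⇑(X.presheaf.map (eqToHom (image_morphismRestrict_preimage c V D)).op) ∘ ⇑(c.app (V.ι ''ᵁ D)) :=
    funext fun x => congr($(morphismRestrict_app c V D) x)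
  rw [e] at h
  exact h.of_comp_left (ConcreteCategory.bijective_of_isIso _).1

theorem finite_restrict {X Y : Scheme.{u}} (c : X ⟶ Y) (V : Y.Opens) (D : V.toScheme.Opens)
    (h : ((c ∣_ V).app D).hom.Finite) : (c.app (V.ι ''ᵁ D)).hom.Finite := by
  let τ := (X.presheaf.mapIso
    (eqToIso (image_morphismRestrict_preimage c V D)).op).commRingCatIsoToRingEquiv
  rw [morphismRestrict_app] at h
  have h' := (RingHom.Finite.of_surjective τ.symm.toRingHom τ.symm.surjective).comp h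
  refine (?_ : (τ.symm.toRingHom.comp (τ.toRingHom.comp (c.app (V.ι ''ᵁ D)).hom)).Finite → _) h'
  rw [← RingHom.comp_assoc, RingEquiv.symm_toRingHom_comp_toRingHom, RingHom.id_comp]
  exact id

variable {X Y S : Scheme.{u}} (c : X ⟶ Y) (g : Y ⟶ S) [IsProper c]
  [LocallyOfFinitePresentation (c ≫ g)] (s : S)
  (hflat : ∀ x : X, g (c x) = s → ((c ≫ g).stalkMap x).hom.Flat)
  (hs : Small (MoreMor.fiberMap c g s) ⊤)
  (hsurj : ∀ U : (g.fiber s).Opens, IsAffineOpen U → Function.Surjective ((MoreMor.fiberMap c g s).app U))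

include hflat hs hsurj in
/-- Near a point of the fibre. -/
theorem exists_good (y : Y) (hy : g y = s) :
    ∃ W : Y.Opens, y ∈ W ∧ Small c W ∧ Flat ((c ⁻¹ᵁ W).ι ≫ c ≫ g) ∧
      ∀ B : Y.Opens, B ≤ W → IsAffineOpen B → Function.Surjective (c.app B) := by
  let O : X.Opens := ⟨_, H19.FlatLocus.Scheme.isOpen_flat_stalkMap (c ≫ g)⟩
  let V₀ : Y.Opens := ⟨(c.base '' (O : Set X)ᶜ)ᶜ, (c.isClosedMap _ O.2.isClosed_compl).isOpen_compl⟩
  have hyV₀ : y ∈ V₀ := fun ⟨x, hx, hxy⟩ => hx (hflat x (by rw [show c x = y from hxy]; exact hy))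
  have sq := isPullback_fiberMap c g s
  haveI : IsProper (MoreMor.fiberMap c g s) := MorphismProperty.of_isPullback sq inferInstance
  obtain ⟨z, hz⟩ : y ∈ Set.range (g.fiberι s) := by rw [g.range_fiberι]; exact hy
  have hd := Fibres.dim_fibre' c sq z (hs z trivial).1
  have hH := Fibres.H1_fibre c sq z hd ⊤ trivial
    fun U _ hU => Fibres.subsingleton_HH _ hU (hs.mono le_top)
  rw [hz] at hd hH
  obtain ⟨V₁, hyV₁, hsV₁⟩ := Fibres.exists_small c hd hH
  obtain ⟨US, hUS, hsUS, -⟩ := exists_isAffineOpen_mem_and_subset (X := S) (x := s) (U := ⊤) trivial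
  obtain ⟨W₁, hW₁, hyW₁, hW₁'⟩ := exists_isAffineOpen_mem_and_subset (X := Y) (x := y)
    (U := (V₀ ⊓ V₁) ⊓ g ⁻¹ᵁ US) ⟨⟨hyV₀, hyV₁⟩, by show g y ∈ US; rwa [hy]⟩
  have hO : ∀ {W : Y.Opens}, W ≤ W₁ → c ⁻¹ᵁ W ≤ O := fun hW x hx =>
    not_not.1 fun hn => (hW₁' (hW hx)).1.1 ⟨x, hn, rfl⟩
  haveI : IsAffine US.toScheme := hUS
  have hle : ∀ {W : Y.Opens}, W ≤ W₁ → W ≤ g ⁻¹ᵁ US := fun hW x hx => (hW₁' (hW hx)).2
  have hprep : ∀ (W : Y.Opens) (hW : W ≤ W₁),
      LocallyOfFinitePresentation ((c ∣_ W) ≫ g.resLE US W (hle hW)) ∧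
        Flat ((c ∣_ W) ≫ g.resLE US W (hle hW)) ∧ IsProper (c ∣_ W) ∧ Small (c ∣_ W) ⊤ := by
    intro W hW
    have e : ((c ∣_ W) ≫ g.resLE US W (hle hW)) ≫ US.ι = (c ⁻¹ᵁ W).ι ≫ c ≫ g := by
      rw [Category.assoc, Scheme.Hom.resLE_comp_ι, morphismRestrict_ι_assoc]
    haveI : IsProper (c ∣_ W) :=
      MorphismProperty.of_isPullback (isPullback_morphismRestrict c W).flip inferInstance
    refine ⟨?_, ?_, inferInstance, ?_⟩
    · haveI : LocallyOfFinitePresentation (((c ∣_ W) ≫ g.resLE US W (hle hW)) ≫ US.ι) := by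
        rw [e]; infer_instance
      exact Lim.OpenImm.lfp_of_comp _ US.ι
    · haveI : Flat (((c ∣_ W) ≫ g.resLE US W (hle hW)) ≫ US.ι) := by
        rw [e]; exact (flat_ι_comp_iff _ _).2 fun x hx => hO hW hx
      exact Basic.flat_of_comp_mono _ US.ι
    · have h := Fibres.small_baseChange c (isPullback_morphismRestrict c W).flip
        (hsV₁.mono (W' := W) fun x hx => (hW₁' (hW hx)).1.2)
      exact fun w _ => h w w.2
  -- finiteness
  obtain ⟨W, hW, hyW, hWW₁, hfin⟩ : ∃ W : Y.Opens, IsAffineOpen W ∧ y ∈ W ∧ W ≤ W₁ ∧ (c.app W).hom.Finite := by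
    obtain ⟨h1, h2, h3, h4⟩ := hprep W₁ le_rfl
    haveI : IsAffine W₁.toScheme := hW₁
    obtain ⟨D, hD, hyD, hfin⟩ := exists_finite_affine (c ∣_ W₁) (g.resLE US W₁ (hle le_rfl)) h4 ⟨y, hyW₁⟩
    exact ⟨_, hD.image_of_isOpenImmersion W₁.ι, ⟨_, hyD, rfl⟩,
      fun x hx => by obtain ⟨w, -, rfl⟩ := hx; exact w.2, finite_restrict c W₁ D hfin⟩
  obtain ⟨h1, h2, h3, h4⟩ := hprep W hWW₁
  haveI : IsAffine W.toScheme := hW
  -- the fibre
  let P : (g.fiber s).Opens := g.fiberι s ⁻¹ᵁ W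
  let g₁ := g.resLE US W (hle hWW₁)
  let b' : Spec (S.residueField s) ⟶ US.toScheme :=
    IsOpenImmersion.lift US.ι (S.fromSpecResidueField s) (by
      rw [Scheme.range_fromSpecResidueField, Scheme.Opens.range_ι]
      exact Set.singleton_subset_iff.2 hsUS)
  have hb' : b' ≫ US.ι = S.fromSpecResidueField s := IsOpenImmersion.lift_fac _ _ _
  have sqY : IsPullback (g.fiberι s ∣_ W) (P.ι ≫ g.fiberToSpecResidueField s) g₁ b' :=
    isPullback_of_comp_mono US.ι (by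
      rw [hb', Scheme.Hom.resLE_comp_ι]
      exact (isPullback_morphismRestrict (g.fiberι s) W).paste_vert
        (IsPullback.of_hasPullback g (S.fromSpecResidueField s)))
  have sqX := Scheme.Hom.isPullback_resLE sq (US := W) (UT := P) le_rfl
    (UX := c ⁻¹ᵁ W) le_rfl (UY := MoreMor.fiberMap c g s ⁻¹ᵁ P) (by
      refine le_antisymm (le_inf (fun x hx => ?_) le_rfl) inf_le_right
      show c ((c ≫ g).fiberι s x) ∈ W
      rw [← Scheme.Hom.comp_apply, sq.w, Scheme.Hom.comp_apply]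
      exact hx)
  rw [Scheme.Hom.resLE_eq_morphismRestrict c, Scheme.Hom.resLE_eq_morphismRestrict (MoreMor.fiberMap c g s),
    Scheme.Hom.resLE_eq_morphismRestrict (g.fiberι s)] at sqX
  have hP : IsAffineOpen P := IsAffine.of_isIso sqY.isoPullback.hom
  have hsP : Function.Surjective (MoreMor.fiberMap c g s ∣_ P).appTop := by
    have e : ⇑((MoreMor.fiberMap c g s ∣_ P).app ⊤) =
        ⇑(((c ≫ g).fiber s).presheaf.map
          (eqToHom (image_morphismRestrict_preimage (MoreMor.fiberMap c g s) P ⊤)).op) ∘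
          ⇑((MoreMor.fiberMap c g s).app (P.ι ''ᵁ ⊤)) :=
      funext fun x => congr($(morphismRestrict_app (MoreMor.fiberMap c g s) P ⊤) x)
    show Function.Surjective ((MoreMor.fiberMap c g s ∣_ P).app ⊤)
    rw [e]
    refine (ConcreteCategory.bijective_of_isIso _).2.comp ?_
    exact hsurj _ (by rw [P.ι_image_top]; exact hP)
  have hK : IsField Γ(Spec (S.residueField s), ⊤) :=
    (Scheme.ΓSpecIso (S.residueField s)).commRingCatIsoToRingEquiv.toMulEquiv.isField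
      (Field.toIsField (S.residueField s))
  let z' : P := ⟨z, show g.fiberι s z ∈ W by rw [hz]; exact hyW⟩
  have hyz : (g.fiberι s ∣_ W) z' = (⟨y, hyW⟩ : W.toScheme) :=
    Subtype.ext ((morphismRestrict_base_coe _ W z').trans hz)
  -- spreading out
  letI := (g₁.appLE ⊤ ⊤ le_top).hom.toAlgebra
  letI := (g₁.appLE ⊤ ⊤ le_top ≫ (c ∣_ W).appLE ⊤ ⊤ le_top).hom.toAlgebra
  letI := (b'.appLE ⊤ ⊤ le_top).hom.toAlgebra
  let φ : Γ(W.toScheme, ⊤) →ₐ[Γ(US.toScheme, ⊤)] Γ((c ⁻¹ᵁ W).toScheme, ⊤) :=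
    { (c ∣_ W).appTop.hom with
      commutes' := fun r => congr($(Scheme.Hom.app_eq_appLE (c ∣_ W) (U := ⊤)) (g₁.appLE ⊤ ⊤ le_top r)) }
  have hφfin : φ.toRingHom.Finite := by
    show (c ∣_ W).appTop.hom.Finite
    rw [morphismRestrict_appTop]
    refine (RingHom.Finite.of_surjective _ (ConcreteCategory.bijective_of_isIso
      (X.presheaf.map (eqToHom (image_morphismRestrict_preimage c W ⊤)).op)).2).comp ?_
    have key : ∀ V : Y.Opens, V = W → (c.app V).hom.Finite := by rintro _ rfl; exact hfin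
    exact key _ W.ι_image_top
  have hlt := surjective_lTensor (c ∣_ W) g₁ h4 sqY sqX hsP φ.toLinearMap (fun _ => rfl)
  letI := hK.toField
  let Q := ((isAffineOpen_top W.toScheme).primeIdealOf ⟨(g.fiberι s ∣_ W) z', trivial⟩).asIdeal
  haveI : Q.IsPrime := ((isAffineOpen_top W.toScheme).primeIdealOf ⟨(g.fiberι s ∣_ W) z', trivial⟩).isPrime
  have hQ : Q.comap (algebraMap Γ(US.toScheme, ⊤) Γ(W.toScheme, ⊤)) =
      RingHom.ker (algebraMap Γ(US.toScheme, ⊤) Γ(Spec (S.residueField s), ⊤)) := by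
    refine (NearPoint.comap_prime g₁ sqY z').trans ?_
    rw [(Ideal.eq_bot_or_top ((isAffineOpen_top (Spec (S.residueField s))).primeIdealOf
      ⟨(P.ι ≫ g.fiberToSpecResidueField s) z', trivial⟩).asIdeal).resolve_right
      ((isAffineOpen_top (Spec (S.residueField s))).primeIdealOf
        ⟨(P.ι ≫ g.fiberToSpecResidueField s) z', trivial⟩).isPrime.ne_top]
    rfl
  obtain ⟨a, ha, hC⟩ := Alg.exists_surjective φ hφfin Γ(Spec (S.residueField s), ⊤) Q hQ hlt
  have hmem : (g.fiberι s ∣_ W) z' ∈ W.toScheme.basicOpen a := by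
    have h1 : (isAffineOpen_top W.toScheme).primeIdealOf ⟨(g.fiberι s ∣_ W) z', trivial⟩ ∈
        (isAffineOpen_top W.toScheme).fromSpec ⁻¹ᵁ W.toScheme.basicOpen a := by
      rw [(isAffineOpen_top W.toScheme).fromSpec_preimage_basicOpen a]; exact ha
    have h2 : (isAffineOpen_top W.toScheme).fromSpec
        ((isAffineOpen_top W.toScheme).primeIdealOf ⟨(g.fiberι s ∣_ W) z', trivial⟩) ∈
          W.toScheme.basicOpen a := h1
    rwa [(isAffineOpen_top W.toScheme).fromSpec_primeIdealOf] at h2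
  haveI : CompactSpace (c ⁻¹ᵁ W).toScheme := QuasiCompact.compactSpace_of_compactSpace (c ∣_ W)
  haveI : QuasiSeparatedSpace (c ⁻¹ᵁ W).toScheme := quasiSeparatedSpace_of_quasiSeparated (c ∣_ W)
  have hsD := surjective_restrict c W _ (Basic.surjective_app_basicOpen (c ∣_ W)
    (isAffineOpen_top W.toScheme) isCompact_univ (isQuasiSeparated_univ_iff.2 inferInstance) a hC)
  let D : Y.Opens := W.ι ''ᵁ W.toScheme.basicOpen a
  have hDW : D ≤ W₁ := fun x hx => by obtain ⟨w, -, rfl⟩ := hx; exact hWW₁ w.2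
  have hDaff : IsAffineOpen D :=
    ((isAffineOpen_top W.toScheme).basicOpen a).image_of_isOpenImmersion W.ι
  have hsmall : Small c D := hsV₁.mono fun x hx => (hW₁' (hDW hx)).1.2
  refine ⟨D, ⟨_, hmem, by rw [hyz]; rfl⟩, hsmall, (flat_ι_comp_iff _ _).2 fun x hx => hO hDW hx,
    fun B hBD hB => ?_⟩
  exact DegreeZero.surjective_app c hDaff (fun t ht => (hsmall t ht).1) (fun t ht => (hsmall t ht).2)
    hsD (f' := c) (g' := 𝟙 X) (g := 𝟙 Y) (IsPullback.of_horiz_isIso ⟨by simp⟩) hB hBD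

include hflat hs hsurj in
/-- Near the fibre. -/
theorem exists_good_nhd :
    ∃ V : Y.Opens, g ⁻¹' {s} ⊆ (V : Set Y) ∧ Small c V ∧ Flat ((c ⁻¹ᵁ V).ι ≫ c ≫ g) ∧
      ∀ U : Y.Opens, U ≤ V → IsAffineOpen U → Function.Surjective (c.app U) := by
  choose W hyW hsW hfW hbW using exists_good c g s hflat hs hsurj
  let V : Y.Opens := ⨆ y : {y : Y // g y = s}, W y.1 y.2
  refine ⟨V, fun y hy => Opens.mem_iSup.2 ⟨⟨y, hy⟩, hyW y hy⟩, fun y hy => ?_, ?_, fun U hUV hU => ?_⟩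
  · obtain ⟨i, hi⟩ := Opens.mem_iSup.1 hy
    exact hsW i.1 i.2 y hi
  · refine (flat_ι_comp_iff _ _).2 fun x hx => ?_
    obtain ⟨i, hi⟩ := Opens.mem_iSup.1 (show c x ∈ V from hx)
    exact (flat_ι_comp_iff _ _).1 (hfW i.1 i.2) x hi
  · refine surjective_app_of_locally c hU fun x hx => ?_
    obtain ⟨i, hi⟩ := Opens.mem_iSup.1 (hUV hx)
    exact ⟨W i.1 i.2, hi, hbW i.1 i.2⟩

end

end Groth.Agent.Lib.SurjNear64.Main
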